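import Groth.Agent.W7Exist.Sep
import Groth.Agent.W7Exist.Tors

/-!
Separation of bounded torsion in coherent formal modules, and maps out of `I^D M` defined by linear forms.
-/

set_option autoImplicit false
set_option backward.isDefEq.respectTransparency false
set_option backward.isDefEq.respectTransparency.types false
set_option linter.style.haveILetI false
set_option maxHeartbeats 1000000

universe u

open CategoryTheory CategoryTheory.Limits AlgebraicGeometry TopologicalSpace Opposite
open Groth.Agent.QC (res res_res res_smul app_res appₗ)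
open Groth.Agent.W7Exist

attribute [local instance] Abelian.hasFiniteBiproducts

noncomputable section

namespace Groth.Agent.CdOneTop

variable {A : Type u} [CommRing A] {X : Scheme.{u}} [X.Over (Spec (CommRingCat.of A))] {I : Ideal A}

/-- In a finite product, membership in `J • ⊤` is checked on components. -/
lemma pi_mem_smul_top {R : Type u} [CommRing R] {ι : Type} [Fintype ι] {M : Type u} [AddCommGroup M] [Module R M]
    (J : Ideal R) (y : ι → M) : y ∈ (J • ⊤ : Submodule R (ι → M)) ↔ ∀ i, y i ∈ (J • ⊤ : Submodule R M) := by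
  classical
  refine ⟨fun h i => ?_, fun h => ?_⟩
  · have := Submodule.mem_map_of_mem (f := LinearMap.proj (R := R) (φ := fun _ : ι => M) i) h
    rw [Submodule.map_smul''] at this
    exact Submodule.smul_mono le_rfl le_top this
  · rw [← Finset.univ_sum_single y]
    refine sum_mem fun i _ => ?_
    have := Submodule.mem_map_of_mem (f := LinearMap.single R (fun _ : ι => M) i) (h i)
    rw [Submodule.map_smul''] at this
    exact Submodule.smul_mono le_rfl le_top this

/-- Separation of bounded torsion in a coherent formal module. -/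
theorem exists_sep_torsion [IsNoetherianRing A] [IsLocallyNoetherian X] [CompactSpace X] {G : ℕᵒᵖ ⥤ X.Modules}
    (hG : Formal.IsCohFormal I G) (c : ℕ) :
    ∃ d₀, ∀ n, ∃ N, ∀ (N' : ℕ) (_ : N ≤ N') (hn : n ≤ N') (T : X.Modules) (z : T ⟶ G.obj (op N')),
      (∀ a ∈ I ^ c, z ≫ Formal.smulMod A (G.obj (op N')) a = 0) →
      z ≫ Formal.modPowπ I d₀ (G.obj (op N')) = 0 → z ≫ trG G hn = 0 := by
  classical
  obtain ⟨κ, hκ, V, hV, -, hcov⟩ := QC.exists_finite_affine_cover (X := X) (W := ⊤) CompactSpace.isCompact_univ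
  obtain ⟨r, a, ha⟩ := Submodule.fg_iff_exists_fin_generating_family.1 (IsNoetherian.noetherian (I ^ c))
  have haI : ∀ j, a j ∈ I ^ c := fun j => ha ▸ Submodule.subset_span ⟨j, rfl⟩
  have hloc : ∀ k, ∃ d₀, ∀ d, d₀ ≤ d → ∀ n, ∃ N, ∀ (N' : ℕ) (_ : N ≤ N') (hn : n ≤ N') (s : Γ(G.obj (op N'), V k)),
      (∀ j, W7Cech.secRing A (V k) (a j) • s = 0) →
      s ∈ ((I.map (W7Cech.secRing A (V k))) ^ d • ⊤ : Submodule Γ(X, V k) Γ(G.obj (op N'), V k)) →
      (trG G hn).app (V k) s = 0 := fun k => by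
    let U : X.affineOpens := ⟨V k, hV k⟩
    let R := Γ(X, V k)
    haveI : IsNoetherianRing R := IsLocallyNoetherian.component_noetherian U
    let J : Ideal R := I.map (W7Cech.secRing A (V k))
    let M : ℕ → Type u := fun n => Γ(G.obj (op n), V k)
    haveI : ∀ n, Module.Finite R (M n) := fun n => (QC.isCoh_iff_finite_sections.1 (hG.1 n)).2 U
    let f : ∀ n, M (n + 1) →ₗ[R] M n := fun n => appₗ (tn G n) (V k)
    have hf : ∀ n, Function.Surjective (f n) := fun n => app_trG_surjective hG (Nat.le_succ n) (hV k)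
    have hker : ∀ n, LinearMap.ker (f n) = J ^ (n + 1) • ⊤ := fun n =>
      SetLike.ext fun s => LinearMap.mem_ker.trans (tn_app_eq_zero_iff hG n (hV k) s)
    have hkill : ∀ n, ∀ b ∈ J ^ (n + 1), ∀ x : M n, b • x = 0 := fun n b hb x =>
      smul_eq_zero_of_killedBy (hG.2.1 n) (V k) b (by rwa [Ideal.map_pow]) x
    let f' : ∀ n, (Fin r → M (n + 1)) →ₗ[R] (Fin r → M n) := fun n => LinearMap.pi fun j => f n ∘ₗ LinearMap.proj j
    let β : ∀ n, M n →ₗ[R] (Fin r → M n) := fun n =>
      LinearMap.pi fun j => W7Cech.secRing A (V k) (a j) • LinearMap.id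
    obtain ⟨m₀, hm₀⟩ := exists_sep_tower (R := R) J J c M (fun n => Fin r → M n) f f' hf
      (fun n y => by
        choose g hg using fun j => hf n (y j)
        exact ⟨g, funext hg⟩) hker
      (fun n => SetLike.ext fun y => by
        rw [pi_mem_smul_top, LinearMap.mem_ker]
        simp only [f', ← hker n, LinearMap.mem_ker, funext_iff, LinearMap.pi_apply, LinearMap.comp_apply,
          LinearMap.proj_apply, Pi.zero_apply])
      hkill (fun n b hb y => funext fun j => hkill n b hb (y j)) inferInstance (fun n => inferInstance) β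
      (fun n x => funext fun j => map_smul (f n) _ x)
      (fun n x hx b hb => by
        rw [show J ^ c = (I ^ c).map (W7Cech.secRing A (V k)) from (Ideal.map_pow _ _ _).symm, ← ha,
          Ideal.submodule_span_eq, Ideal.map_span, ← Set.range_comp] at hb
        refine Submodule.span_induction (p := fun b _ => b • x = 0) ?_ (zero_smul _ _) ?_ ?_ hb
        · rintro _ ⟨j, rfl⟩
          exact congrFun hx j
        · intro p q _ _ hp hq
          rw [add_smul, hp, hq, add_zero]
        · intro p q _ hq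
          rw [smul_eq_mul, mul_smul, hq, smul_zero])
    refine ⟨m₀, fun d hd n => ?_⟩
    obtain ⟨N, hN, hsep⟩ := hm₀ d hd n
    refine ⟨N, fun N' h' hn s hs hsd => ?_⟩
    have h0 : β N ((trG G h').app (V k) s) = 0 := funext fun j =>
      ((appₗ (trG G h') (V k)).map_smul _ s).symm.trans
        ((congrArg (appₗ (trG G h') (V k)) (hs j)).trans (map_zero _))
    have h1 : (trG G h').app (V k) s ∈ (J ^ d • ⊤ : Submodule R (M N)) := by
      have hs2 := Submodule.mem_map_of_mem (f := appₗ (trG G h') (V k)) hsd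
      rw [Submodule.map_smul''] at hs2
      exact Submodule.smul_mono le_rfl le_top hs2
    obtain ⟨y, hy, hyN⟩ := exists_compatible_seq N M (fun n => (tn G n).app (V k)) hf ((trG G h').app (V k) s)
    have hy0 := hsep y hy (by rw [hyN]; exact h0) (by rw [hyN]; exact h1)
    have hred : ∀ L (hL : n ≤ L), (trG G hL).app (V k) (y L) = y n := fun L hL => by
      induction L, hL using Nat.le_induction with
      | base => rw [trG_self]; rfl
      | succ L hL ih =>
        rw [← trG_comp G (Nat.le_succ L) hL]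
        change (trG G hL).app (V k) ((tn G L).app (V k) (y (L + 1))) = _
        rw [hy L, ih]
    refine (congr(($(trG_comp G h' hN)).app (V k) s)).symm.trans ?_
    change (trG G hN).app (V k) ((trG G h').app (V k) s) = 0
    rw [← hyN, hred N hN, hy0]
  choose d₀ hd₀ using hloc
  haveI := hκ
  refine ⟨Finset.univ.sup d₀, fun n => ?_⟩
  choose N hsep using fun k => hd₀ k (Finset.univ.sup d₀) (Finset.le_sup (Finset.mem_univ k)) n
  refine ⟨Finset.univ.sup N, fun N' h' hn T z hz hzd => ?_⟩
  let M := G.obj (op N')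
  let μ : M ⟶ ⨁ fun _ : Fin r => M := biproduct.lift fun j => Formal.smulMod A M (a j)
  let k₁ := kernel.ι μ
  let k₂ := kernel.ι (k₁ ≫ Formal.modPowπ I (Finset.univ.sup d₀) M)
  have hMq : Coh.IsQCoh M := (hG.1 N').1
  have hzero : k₂ ≫ k₁ ≫ trG G hn = 0 := by
    refine hom_eq_zero_of_cover V hV (fun x => hcov x trivial) (QC.isQCoh_kernel
      (QC.isQCoh_kernel hMq (Devissage.isQCoh_biproduct _ fun _ => hMq) _)
      (W7Rees.isQCoh_modQuot (J := I ^ Finset.univ.sup d₀) (F := M) hMq) _) _ fun k s => ?_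
    refine hsep k N' ((Finset.le_sup (Finset.mem_univ k)).trans h') hn _ (fun j => ?_) ?_
    · have h : k₁ ≫ Formal.smulMod A M (a j) = 0 := by
        rw [← biproduct.lift_π (fun j => Formal.smulMod A M (a j)) j, ← Category.assoc, kernel.condition, zero_comp]
      exact congr(($h).app (V k) (k₂.app (V k) s))
    · exact (W7Rees.π_app_eq_zero_iff I hMq (hV k) _ _).1
        congr(($(kernel.condition (k₁ ≫ Formal.modPowπ I (Finset.univ.sup d₀) M))).app (V k) s)
  have hzμ : z ≫ μ = 0 := biproduct.hom_ext _ _ fun j => by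
    rw [Category.assoc, biproduct.lift_π, hz _ (haI j), zero_comp]
  rw [← kernel.lift_ι μ z hzμ, ← kernel.lift_ι (k₁ ≫ Formal.modPowπ I (Finset.univ.sup d₀) M)
    (kernel.lift μ z hzμ) (by rw [← Category.assoc]; exact (congrArg (· ≫ _) (kernel.lift_ι μ z hzμ)).trans hzd),
    Category.assoc, Category.assoc]
  exact (congrArg (kernel.lift _ _ _ ≫ ·) hzero).trans comp_zero

section Gens

variable {r : ℕ} (a : Fin r → A)

/-- The multiplication map `M^r → M` by finitely many elements. -/
abbrev gmap (M : X.Modules) : (⨁ fun _ : Fin r => M) ⟶ M := biproduct.desc fun j => Formal.smulMod A M (a j)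

lemma smulMod_sum {ι : Type} (s : Finset ι) (M : X.Modules) (b : ι → A) :
    Formal.smulMod A M (∑ i ∈ s, b i) = ∑ i ∈ s, Formal.smulMod A M (b i) :=
  map_sum ({ toFun := Formal.smulMod A M, map_zero' := smulMod_zero M, map_add' := smulMod_add M } : A →+ (M ⟶ M)) b s

variable {a} {D : ℕ} (ha : Ideal.span (Set.range a) = I ^ D)

include ha

lemma gens_mem (j : Fin r) : a j ∈ I ^ D := ha ▸ Ideal.subset_span ⟨j, rfl⟩

lemma gmap_π (M : X.Modules) : gmap a M ≫ Formal.modPowπ I D M = 0 := biproduct.hom_ext' _ _ fun j => by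
  rw [biproduct.ι_desc_assoc, comp_zero, smulMod_π I D M _ (gens_mem ha j)]

/-- `M^r → I^D M`. -/
abbrev gl (M : X.Modules) : (⨁ fun _ : Fin r => M) ⟶ Formal2.idealPowMod I D M :=
  kernel.lift _ (gmap a M) (gmap_π ha M)

/-- Generators of `I^D` present `I^D M` as a quotient of `M^r`. -/
lemma epi_gl (M : X.Modules) : Epi (gl ha M) := by
  let S := ShortComplex.mk (gmap a M) (Formal.modPowπ I D M) (gmap_π ha M)
  obtain ⟨g, hg⟩ := exists_desc_modPow I D (cokernel.π (gmap a M)) fun b hb => by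
    rw [← ha] at hb
    obtain ⟨co, rfl⟩ := Ideal.mem_span_range_iff_exists_fun.1 hb
    rw [smulMod_sum, Preadditive.sum_comp]
    refine Finset.sum_eq_zero fun j _ => ?_
    rw [mul_comm, ← smulMod_comp, Category.assoc, ← mul_one (a j)]
    rw [mul_one, ← biproduct.ι_desc (fun j => Formal.smulMod A M (a j)) j, Category.assoc]
    exact (congrArg (fun t => Formal.smulMod A M (co j) ≫ biproduct.ι (fun _ : Fin r => M) j ≫ t) (cokernel.condition _)).trans (by simp)
  have hS : S.Exact := by
    refine S.exact_of_g_is_cokernel (CokernelCofork.IsColimit.ofπ _ _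
      (fun {W} f hf => g ≫ cokernel.desc _ f hf) (fun {W} f hf => ?_) fun {W} f hf m hm => ?_)
    · rw [← Category.assoc]
      exact (congrArg (· ≫ _) hg).trans (cokernel.π_desc _ _ _)
    · haveI : Epi (Formal.modPowπ I D M) := inferInstanceAs (Epi (cokernel.π _))
      rw [← cancel_epi (Formal.modPowπ I D M), ← Category.assoc]
      exact hm.trans ((congrArg (· ≫ _) hg).trans (cokernel.π_desc _ _ _)).symm
  exact S.exact_iff_epi_kernel_lift.1 hS

lemma kernel_gl_comp (M : X.Modules) : kernel.ι (gl ha M) ≫ gmap a M = 0 := by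
  rw [← kernel.lift_ι _ (gmap a M) (gmap_π ha M), kernel.condition_assoc, zero_comp]

/-- A map on `M^r` that kills the relations of the generators descends to `I^D M`. -/
lemma exists_descK {M P : X.Modules} (τ : (⨁ fun _ : Fin r => M) ⟶ P) (hτ : kernel.ι (gmap a M) ≫ τ = 0) :
    ∃ ψ : Formal2.idealPowMod I D M ⟶ P, gl ha M ≫ ψ = τ := by
  haveI := epi_gl ha M
  refine ⟨Abelian.epiDesc (gl ha M) τ ?_, Abelian.comp_epiDesc _ _ _⟩
  rw [← kernel.lift_ι _ (kernel.ι (gl ha M)) (kernel_gl_comp ha M), Category.assoc, hτ, comp_zero]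

/-- Multiples of `g ∈ I^D` factor through `M^r`. -/
lemma exists_factor (M : X.Modules) {g : A} (hg : g ∈ I ^ D) (γ : M ⟶ Formal2.idealPowMod I D M)
    (hγ : γ ≫ Formal2.idealPowModι I D M = Formal.smulMod A M g) :
    ∃ co : Fin r → A, g = ∑ j, co j * a j ∧ γ = biproduct.lift (fun j => Formal.smulMod A M (co j)) ≫ gl ha M := by
  rw [← ha] at hg
  obtain ⟨co, hco⟩ := Ideal.mem_span_range_iff_exists_fun.1 hg
  refine ⟨co, hco.symm, ?_⟩
  rw [← cancel_mono (Formal2.idealPowModι I D M), hγ, Category.assoc, kernel.lift_ι, biproduct.lift_desc, ← hco,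
    smulMod_sum]
  exact Finset.sum_congr rfl fun j _ => by rw [smulMod_comp, mul_comm]

end Gens

/-- A linear form on an ideal is symmetric. -/
lemma linear_symm {J : Ideal A} (φ : ↥J →ₗ[A] A) (x y : ↥J) : (x : A) * φ y = φ x * (y : A) := by
  rw [mul_comm (φ x), ← smul_eq_mul (x : A), ← smul_eq_mul (y : A), ← map_smul, ← map_smul]
  exact congrArg φ (Subtype.ext (mul_comm _ _))

/-- A linear form on `I^c` maps `I^(c+d)` into `I^d`. -/
lemma linear_mem {c d : ℕ} (φ : ↥(I ^ c) →ₗ[A] A) (x : A) (hx : x ∈ I ^ (c + d)) (hx' : x ∈ I ^ c) :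
    φ ⟨x, hx'⟩ ∈ I ^ d := by
  have hle : I ^ (c + d) ≤ Submodule.map (I ^ c).subtype (Submodule.comap φ (I ^ d)) := by
    rw [add_comm, pow_add]
    refine Ideal.mul_le.2 fun u hu v hv => ⟨u • (⟨v, hv⟩ : ↥(I ^ c)), ?_, rfl⟩
    change φ (u • (⟨v, hv⟩ : ↥(I ^ c))) ∈ I ^ d
    rw [map_smul, smul_eq_mul]
    exact Ideal.mul_mem_right _ _ hu
  obtain ⟨y, hy, hyx⟩ := hle hx
  rw [show (⟨x, hx'⟩ : ↥(I ^ c)) = y from Subtype.ext hyx.symm]
  exact hy

/-- A linear form on `I^c` respects the relations of elements of high order, up to bounded torsion. -/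
theorem exists_rel [IsNoetherianRing A] [IsLocallyNoetherian X] [CompactSpace X] {G : ℕᵒᵖ ⥤ X.Modules}
    (hG : Formal.IsCohFormal I G) (c : ℕ) :
    ∃ d₀, ∀ n, ∃ N, ∀ (N' : ℕ) (_ : N ≤ N') (hn : n ≤ N') (φ : ↥(I ^ c) →ₗ[A] A) (r : ℕ) (a : Fin r → A)
      (ha : ∀ j, a j ∈ I ^ (c + d₀)),
      kernel.ι (gmap a (G.obj (op N'))) ≫
        gmap (fun j => φ ⟨a j, Ideal.pow_le_pow_right (Nat.le_add_right c d₀) (ha j)⟩) (G.obj (op N')) ≫ trG G hn = 0 := by
  obtain ⟨d₀, hd₀⟩ := exists_sep_torsion hG c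
  refine ⟨d₀, fun n => ?_⟩
  obtain ⟨N, hN⟩ := hd₀ n
  refine ⟨N, fun N' h' hn φ r a ha => ?_⟩
  rw [← Category.assoc]
  refine hN N' h' hn _ _ (fun b hb => ?_) ?_
  · rw [Category.assoc, show gmap (fun j => φ ⟨a j, Ideal.pow_le_pow_right (Nat.le_add_right c d₀) (ha j)⟩) (G.obj (op N'))
        ≫ Formal.smulMod A _ b = gmap a (G.obj (op N')) ≫ Formal.smulMod A _ (φ ⟨b, hb⟩) from ?_,
      kernel.condition_assoc, zero_comp]
    refine biproduct.hom_ext' _ _ fun j => ?_
    rw [biproduct.ι_desc_assoc, biproduct.ι_desc_assoc, smulMod_comp, smulMod_comp]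
    exact congrArg _ (linear_symm φ ⟨b, hb⟩ ⟨a j, _⟩)
  · refine (Category.assoc _ _ _).trans ((congrArg (kernel.ι _ ≫ ·) ?_).trans comp_zero)
    refine biproduct.hom_ext' _ _ fun j => ?_
    rw [biproduct.ι_desc_assoc, comp_zero]
    refine smulMod_π I d₀ _ _ ?_
    exact linear_mem φ _ (ha j) _

end Groth.Agent.CdOneTop
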