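import Groth.Agent.CdOneTop.Basic
import Groth.Agent.CohFinite.Linear
import Groth.Prelude.Def_Formal2

/-!
Families of cohomology classes vanishing at a finite level lift to classes of `I^D G_N`, compatibly;
the linear forms on `I^c` act on these.
-/

set_option autoImplicit false
set_option backward.isDefEq.respectTransparency false
set_option backward.isDefEq.respectTransparency.types false
set_option linter.style.haveILetI false
set_option maxHeartbeats 1000000

universe u

open CategoryTheory CategoryTheory.Limits AlgebraicGeometry TopologicalSpace Opposite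
open Groth.Agent.W7Exist
open Groth.Agent.CohFinite (hhMap hhMap_comp hhMap_id hhδ shortExact_toAb)

attribute [local instance] Abelian.hasFiniteBiproducts

noncomputable section

namespace Groth.Agent.CdOneTop

variable {A : Type u} [CommRing A] {X : Scheme.{u}} [X.Over (Spec (CommRingCat.of A))] {I : Ideal A}
  {G : ℕᵒᵖ ⥤ X.Modules}

/-- The functoriality of `I^D M`. -/
def kmap (I : Ideal A) (D : ℕ) {M N : X.Modules} (t : M ⟶ N) :
    Formal2.idealPowMod I D M ⟶ Formal2.idealPowMod I D N :=
  kernel.map _ _ t (modMap I D t) (π_modMap I D t)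

lemma kmap_ι (I : Ideal A) (D : ℕ) {M N : X.Modules} (t : M ⟶ N) :
    kmap I D t ≫ Formal2.idealPowModι I D N = Formal2.idealPowModι I D M ≫ t :=
  kernel.lift_ι _ _ _

/-- The sequence `0 → I^D M → M → M/I^D M → 0`. -/
abbrev dSeq (I : Ideal A) (D : ℕ) (M : X.Modules) : ShortComplex X.Modules :=
  ShortComplex.mk (Formal2.idealPowModι I D M) (Formal.modPowπ I D M) (kernel.condition _)

lemma shortExact_dSeq (I : Ideal A) (D : ℕ) (M : X.Modules) : (dSeq I D M).ShortExact := by
  haveI : Mono (dSeq I D M).f := inferInstanceAs (Mono (kernel.ι _))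
  haveI : Epi (dSeq I D M).g := inferInstanceAs (Epi (cokernel.π _))
  exact ShortComplex.ShortExact.mk (ShortComplex.exact_kernel _)

/-- The morphism of sequences induced by a map. -/
def dSeqMap (I : Ideal A) (D : ℕ) {M N : X.Modules} (t : M ⟶ N) : dSeq I D M ⟶ dSeq I D N :=
  ShortComplex.homMk (kmap I D t) t (modMap I D t) (kmap_ι I D t) (π_modMap I D t).symm

variable (hG : Formal.IsCohFormal I G)

include hG in
/-- Beyond level `c`, the quotient modulo `I^(c+1)` is the `c`-th term. -/
lemma exists_level {c N : ℕ} (hc : c ≤ N) :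
    ∃ g : G.obj (op c) ⟶ Formal.modPow I (c + 1) (G.obj (op N)),
      trG G hc ≫ g = Formal.modPowπ I (c + 1) (G.obj (op N)) ∧ IsIso g := by
  haveI := epi_trG hG hc
  obtain ⟨g, hg⟩ := exists_desc_trG hG hc (P := Formal.modPow I (c + 1) (G.obj (op N)))
    (fun a ha => by
      haveI : Epi (Formal.modPowπ I (c + 1) (G.obj (op N))) := inferInstanceAs (Epi (cokernel.π _))
      rw [← cancel_epi (Formal.modPowπ I (c + 1) (G.obj (op N))), comp_zero, ← W7Cech.smulMod_natural,
        smulMod_π I (c + 1) _ a ha]) (Formal.modPowπ I (c + 1) (G.obj (op N)))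
  obtain ⟨k, hk⟩ := exists_desc_modPow I (c + 1) (trG G hc) fun a ha => by
    rw [W7Cech.smulMod_natural, hG.2.1 c a ha, comp_zero]
  refine ⟨g, hg, k, ?_, ?_⟩
  · rw [← cancel_epi (trG G hc), ← Category.assoc, hg, hk, Category.comp_id]
  · haveI : Epi (Formal.modPowπ I (c + 1) (G.obj (op N))) := inferInstanceAs (Epi (cokernel.π _))
    rw [← cancel_epi (Formal.modPowπ I (c + 1) (G.obj (op N))), ← Category.assoc, hk, hg, Category.comp_id]

include hG in
/-- A compatible family vanishing at level `c` comes from a compatible family in `I^(c+1) G_N`. -/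
theorem exists_lift_family (p c : ℕ) (x : ∀ n, Coh.HH X (G.obj (op n)) p)
    (hx : ∀ n, hhMap A (tn G n) p (x (n + 1)) = x n) (hxc : x c = 0) :
    ∃ y : ∀ n, Coh.HH X (Formal2.idealPowMod I (c + 1) (G.obj (op (c + n)))) p,
      (∀ n, hhMap A (kmap I (c + 1) (tn G (c + n))) p (y (n + 1)) = y n) ∧
      ∀ n, hhMap A (Formal2.idealPowModι I (c + 1) (G.obj (op (c + n)))) p (y n) = x (c + n) := by
  choose g hg hgi using fun n : ℕ => exists_level hG (Nat.le_add_right c n)
  have hxtr : ∀ n, hhMap A (trG G (Nat.le_add_right c n)) p (x (c + n)) = x c := by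
    intro n
    induction n with
    | zero =>
      rw [show trG G (Nat.le_add_right c 0) = 𝟙 (G.obj (op c)) from trG_self G c]
      exact hhMap_id A _ p _
    | succ n ih =>
      rw [show trG G (Nat.le_add_right c (n + 1)) = tn G (c + n) ≫ trG G (Nat.le_add_right c n) from
        (trG_comp G (Nat.le_succ (c + n)) (Nat.le_add_right c n)).symm, hhMap_comp]
      exact (congrArg _ (hx (c + n))).trans ih
  have hlift : ∀ n, ∃ y, hhMap A (Formal2.idealPowModι I (c + 1) (G.obj (op (c + n)))) p y = x (c + n) := fun n => by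
    refine (CohFinite.map_g_eq_zero_iff (shortExact_toAb (shortExact_dSeq I (c + 1) _)) p _).1 ?_
    change hhMap A (Formal.modPowπ I (c + 1) _) p (x (c + n)) = 0
    rw [← hg n, hhMap_comp, hxtr, hxc, map_zero]
  let S : ℕ → Type u := fun n =>
    {y : Coh.HH X (Formal2.idealPowMod I (c + 1) (G.obj (op (c + n)))) p //
      hhMap A (Formal2.idealPowModι I (c + 1) (G.obj (op (c + n)))) p y = x (c + n)}
  let T : ∀ n, S (n + 1) → S n := fun n y => ⟨hhMap A (kmap I (c + 1) (tn G (c + n))) p y.1, by
    rw [← hhMap_comp, kmap_ι, hhMap_comp]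
    exact (congrArg (hhMap A (tn G (c + n)) p) y.2).trans (hx (c + n))⟩
  have hT : ∀ n, Function.Surjective (T n) := by
    intro n y
    obtain ⟨y', hy'⟩ := hlift (n + 1)
    let z : Coh.HH X (Formal2.idealPowMod I (c + 1) (G.obj (op (c + n)))) p := y.1 - (T n ⟨y', hy'⟩).1
    have hz : hhMap A (Formal2.idealPowModι I (c + 1) (G.obj (op (c + n)))) p z = 0 := by
      rw [map_sub, y.2, (T n ⟨y', hy'⟩).2, sub_self]
    obtain ⟨z', hz', hz''⟩ : ∃ z', hhMap A (Formal2.idealPowModι I (c + 1) (G.obj (op (c + (n + 1))))) p z' = 0 ∧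
        hhMap A (kmap I (c + 1) (tn G (c + n))) p z' = z := by
      clear_value z
      clear y y' hy' hlift T
      cases p with
      | zero =>
        refine ⟨0, map_zero _, ?_⟩
        rw [map_zero]
        exact CohFinite.map_f_injective (shortExact_toAb (shortExact_dSeq I (c + 1) (G.obj (op (c + n)))))
          ((map_zero _).trans hz.symm)
      | succ q =>
        obtain ⟨w, hw⟩ := (CohFinite.map_f_eq_zero_iff
          (shortExact_toAb (shortExact_dSeq I (c + 1) (G.obj (op (c + n))))) q z).1 hz
        haveI := hgi n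
        have hgm : g (n + 1) ≫ modMap I (c + 1) (tn G (c + n)) = g n := by
          haveI := epi_trG hG (Nat.le_add_right c (n + 1))
          rw [← cancel_epi (trG G (Nat.le_add_right c (n + 1))), ← Category.assoc, hg (n + 1)]
          refine ((π_modMap I (c + 1) (tn G (c + n))).trans ?_)
          rw [← hg n, ← Category.assoc]
          exact congrArg (· ≫ g n) (trG_comp G (Nat.le_succ (c + n)) (Nat.le_add_right c n))
        let w' := hhMap A (g (n + 1)) q (hhMap A (inv (g n)) q w)
        have hw' : hhMap A (modMap I (c + 1) (tn G (c + n))) q w' = w := by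
          change hhMap A (modMap I (c + 1) (tn G (c + n))) q (hhMap A (g (n + 1)) q (hhMap A (inv (g n)) q w)) = w
          refine (hhMap_comp A _ _ q _).symm.trans ((congrArg (fun t => hhMap A t q _) hgm).trans ?_)
          refine (hhMap_comp A _ _ q _).symm.trans ?_
          rw [IsIso.inv_hom_id]
          exact hhMap_id A _ q _
        refine ⟨CohFinite.δH (shortExact_toAb (shortExact_dSeq I (c + 1) (G.obj (op (c + (n + 1)))))) q w',
          (CohFinite.map_f_eq_zero_iff (shortExact_toAb (shortExact_dSeq I (c + 1) (G.obj (op (c + (n + 1)))))) q _).2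
            ⟨w', rfl⟩, ?_⟩
        refine (CohFinite.δH_natural (shortExact_toAb (shortExact_dSeq I (c + 1) (G.obj (op (c + (n + 1))))))
          (shortExact_toAb (shortExact_dSeq I (c + 1) (G.obj (op (c + n)))))
          ((CohQC.toAbF X).mapShortComplex.map (dSeqMap I (c + 1) (tn G (c + n)))) q w').symm.trans ?_
        exact (congrArg (CohFinite.δH _ q) hw').trans hw
    refine ⟨⟨y' + z', by rw [map_add, hy', hz', add_zero]⟩, Subtype.ext ?_⟩
    change hhMap A (kmap I (c + 1) (tn G (c + n))) p (y' + z') = y.1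
    rw [map_add, hz'']
    exact add_sub_cancel _ _
  obtain ⟨y0, hy0⟩ := hlift 0
  obtain ⟨y, hy, -⟩ := exists_compatible_seq 0 S T hT ⟨y0, hy0⟩
  exact ⟨fun n => (y n).1, fun n => congrArg Subtype.val (hy n), fun n => (y n).2⟩

include hG in
/-- The topology statement for forms splitting `I^(e)`. -/
theorem exists_split_family [IsNoetherianRing A] [IsLocallyNoetherian X] [CompactSpace X] (p e : ℕ) :
    ∃ c : ℕ, ∀ x : ∀ n, Coh.HH X (G.obj (op n)) p, (∀ n, hhMap A (tn G n) p (x (n + 1)) = x n) → x c = 0 →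
      ∀ (k : ℕ) (f : Fin k → A) (φ : Fin k → (↥(I ^ e) →ₗ[A] A)), (∀ b : ↥(I ^ e), (b : A) = ∑ i, f i * φ i b) →
        ∃ z : Fin k → ∀ n, Coh.HH X (G.obj (op n)) p,
          (∀ i n, hhMap A (tn G n) p (z i (n + 1)) = z i n) ∧ x = ∑ i, f i • z i := by
  classical
  obtain ⟨d₀, hd₀⟩ := exists_rel hG e
  refine ⟨e + d₀, fun x hx hxc k f φ hφ => ?_⟩
  let c := e + d₀
  choose N hN using hd₀
  let K : ℕ → ℕ := fun n => ∑ i ∈ Finset.range (n + 1), (N i + 1)
  have hK1 : ∀ n, N n + 1 ≤ K n := fun n =>
    Finset.single_le_sum (f := fun i => N i + 1) (fun i _ => Nat.zero_le _) (Finset.self_mem_range_succ n)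
  have hK2 : ∀ n, n + 1 ≤ K n := fun n => by
    calc n + 1 = ∑ i ∈ Finset.range (n + 1), 1 := by simp
      _ ≤ K n := Finset.sum_le_sum fun i _ => by omega
  have hKs : ∀ n, K n ≤ K (n + 1) := fun n => by
    simp only [K]
    rw [Finset.sum_range_succ _ (n + 1)]
    exact Nat.le_add_right _ _
  obtain ⟨l, a, ha⟩ := Submodule.fg_iff_exists_fin_generating_family.1 (IsNoetherian.noetherian (I ^ (c + 1)))
  have ha' : Ideal.span (Set.range a) = I ^ (c + 1) := ha
  have hle : I ^ (c + 1) ≤ I ^ e := Ideal.pow_le_pow_right (by omega)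
  have hmem : ∀ j, a j ∈ I ^ (e + d₀) := fun j => Ideal.pow_le_pow_right (Nat.le_succ c) (gens_mem ha' j)
  have hnN : ∀ n, N n ≤ c + K n := fun n => by have := hK1 n; omega
  have hn : ∀ n, n ≤ c + K n := fun n => by have := hK2 n; omega
  choose ψ hψ using fun (i : Fin k) (n : ℕ) => exists_descK ha'
    (gmap (fun j => φ i ⟨a j, hle (gens_mem ha' j)⟩) (G.obj (op (c + K n))) ≫ trG G (hn n))
    (hN n (c + K n) (hnN n) (hn n) (φ i) l a hmem)
  obtain ⟨y, hy, hyx⟩ := exists_lift_family hG p c x hx hxc
  refine ⟨fun i n => hhMap A (ψ i n) p (y (K n)), fun i n => ?_, ?_⟩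
  · have hy' : ∀ (M L : ℕ) (h : M ≤ L) (h' : c + M ≤ c + L),
        hhMap A (kmap I (c + 1) (trG G h')) p (y L) = y M := by
      intro M L h
      induction L, h using Nat.le_induction with
      | base =>
        intro h'
        rw [show kmap I (c + 1) (trG G h') = 𝟙 _ from by
          rw [← cancel_mono (Formal2.idealPowModι I (c + 1) (G.obj (op (c + M)))), kmap_ι, trG_self,
            Category.comp_id, Category.id_comp], hhMap_id]
      | succ L h ih =>
        intro h'
        rw [show kmap I (c + 1) (trG G h') = kmap I (c + 1) (tn G (c + L)) ≫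
            kmap I (c + 1) (trG G (by omega : c + M ≤ c + L)) from by
          rw [← cancel_mono (Formal2.idealPowModι I (c + 1) (G.obj (op (c + M)))), Category.assoc, kmap_ι, kmap_ι,
            ← Category.assoc, kmap_ι, Category.assoc]
          exact congrArg (_ ≫ ·) (trG_comp G (Nat.le_succ (c + L)) (by omega : c + M ≤ c + L)).symm,
          hhMap_comp]
        exact (congrArg _ (hy L)).trans (ih _)
    have hc' : c + K n ≤ c + K (n + 1) := by have := hKs n; omega
    change hhMap A (tn G n) p (hhMap A (ψ i (n + 1)) p (y (K (n + 1)))) = hhMap A (ψ i n) p (y (K n))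
    rw [← hy' (K n) (K (n + 1)) (hKs n) hc', ← hhMap_comp, ← hhMap_comp]
    refine congrArg (fun t => hhMap A t p (y (K (n + 1)))) ?_
    haveI := epi_gl ha' (G.obj (op (c + K (n + 1))))
    rw [← cancel_epi (gl ha' (G.obj (op (c + K (n + 1))))), ← Category.assoc, hψ i (n + 1)]
    have e1 : gl ha' (G.obj (op (c + K (n + 1)))) ≫ kmap I (c + 1) (trG G hc') =
        biproduct.map (fun _ : Fin l => trG G hc') ≫ gl ha' (G.obj (op (c + K n))) := by
      rw [← cancel_mono (Formal2.idealPowModι I (c + 1) (G.obj (op (c + K n)))), Category.assoc, kmap_ι,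
        ← Category.assoc, kernel.lift_ι, Category.assoc, kernel.lift_ι]
      refine biproduct.hom_ext' _ _ fun j => ?_
      rw [biproduct.ι_desc_assoc, biproduct.ι_map_assoc, biproduct.ι_desc, W7Cech.smulMod_natural]
    rw [← Category.assoc (gl ha' _) (kmap I (c + 1) (trG G hc')) (ψ i n), e1]
    simp only [Category.assoc]
    rw [hψ i n]
    refine biproduct.hom_ext' _ _ fun j => ?_
    rw [biproduct.ι_desc_assoc, biproduct.ι_map_assoc, biproduct.ι_desc_assoc, ← Category.assoc (trG G hc'),
      ← W7Cech.smulMod_natural, Category.assoc]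
    refine congrArg (Formal.smulMod A _ _ ≫ ·) ?_
    rw [trG_comp, trG_comp]
  · funext n
    rw [Finset.sum_apply]
    have hsum : ∑ i, ψ i n ≫ Formal.smulMod A (G.obj (op n)) (f i) =
        Formal2.idealPowModι I (c + 1) (G.obj (op (c + K n))) ≫ trG G (hn n) := by
      haveI := epi_gl ha' (G.obj (op (c + K n)))
      rw [← cancel_epi (gl ha' (G.obj (op (c + K n)))), Preadditive.comp_sum, ← Category.assoc, kernel.lift_ι]
      refine biproduct.hom_ext' _ _ fun j => ?_
      rw [Preadditive.comp_sum, biproduct.ι_desc_assoc, show a j = ∑ i, f i * φ i ⟨a j, hle (gens_mem ha' j)⟩ from hφ ⟨a j, _⟩, smulMod_sum,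
        Preadditive.sum_comp]
      refine Finset.sum_congr rfl fun i _ => ?_
      rw [← Category.assoc (gl ha' _), hψ i n, Category.assoc, biproduct.ι_desc_assoc, ← W7Cech.smulMod_natural,
        ← Category.assoc, smulMod_comp]
    have hxn : hhMap A (trG G (hn n)) p (x (c + K n)) = x n := by
      have : ∀ (L : ℕ) (h : n ≤ L), hhMap A (trG G h) p (x L) = x n := fun L h => by
        induction L, h using Nat.le_induction with
        | base => rw [trG_self, hhMap_id]
        | succ L h ih => rw [← trG_comp G (Nat.le_succ L) h, hhMap_comp, hx, ih]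
      exact this _ _
    rw [← hxn, ← hyx, ← hhMap_comp, ← hsum]
    change Sheaf.H.map (CohFinite.toAbMap (∑ i, ψ i n ≫ Formal.smulMod A _ (f i))) p (y (K n)) = _
    rw [CohFinite.toAbMap, Functor.map_sum]
    refine (DFunLike.congr_fun (map_sum (AddMonoidHom.mk' (fun t => Sheaf.H.map t p)
      fun s t => AddMonoidHom.ext fun z => Sheaf.H.map_add_apply s t z) _ _) (y (K n))).trans ?_
    rw [AddMonoidHom.finsetSum_apply]
    refine Finset.sum_congr rfl fun i _ => ?_
    change Sheaf.H.map (CohFinite.toAbMap (ψ i n ≫ Formal.smulMod A _ (f i))) p (y (K n)) = _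
    rw [CohFinite.toAbMap, Functor.map_comp, Sheaf.H.map_comp_apply]
    rfl

end Groth.Agent.CdOneTop
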