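import Groth.Agent.CdOneTop.Basic
import Groth.Prelude.Def_Formal2

/-!
The graded splitting maps on the limit of a coherent formal module.
-/

set_option autoImplicit false
set_option backward.isDefEq.respectTransparency false
set_option backward.isDefEq.respectTransparency.types false
set_option linter.style.haveILetI false
set_option maxHeartbeats 1000000

universe u

open CategoryTheory CategoryTheory.Limits AlgebraicGeometry TopologicalSpace Opposite MvPolynomial
open Groth.Agent.W7Exist

attribute [local instance] Abelian.hasFiniteBiproducts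

noncomputable section

namespace Groth.Agent.CdOneTop

variable {A : Type u} [CommRing A] {X : Scheme.{u}} [X.Over (Spec (CommRingCat.of A))] {I : Ideal A}

/-- A linear form respects the relations of high order elements on the limit. -/
theorem exists_rel_limit [IsNoetherianRing A] [IsLocallyNoetherian X] [CompactSpace X] {G : ℕᵒᵖ ⥤ X.Modules}
    (hG : Formal.IsCohFormal I G) (c : ℕ) :
    ∃ d₀, ∀ (φ : ↥(I ^ c) →ₗ[A] A) (r : ℕ) (a : Fin r → A) (ha : ∀ j, a j ∈ I ^ (c + d₀)),
      kernel.ι (gmap a (limit G)) ≫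
        gmap (fun j => φ ⟨a j, Ideal.pow_le_pow_right (Nat.le_add_right c d₀) (ha j)⟩) (limit G) = 0 := by
  obtain ⟨d₀, hd₀⟩ := exists_rel hG c
  refine ⟨d₀, fun φ r a ha => limit.hom_ext fun j => ?_⟩
  obtain ⟨n, rfl⟩ : ∃ n, op n = j := ⟨j.unop, rfl⟩
  obtain ⟨N, hN⟩ := hd₀ n
  have hn : n ≤ max n N := le_max_left _ _
  have h := hN _ (le_max_right n N) hn φ r a ha
  let L := limit G
  let p := limit.π G (op (max n N))
  have hnat : ∀ b : Fin r → A, gmap b L ≫ p =
      biproduct.map (fun _ : Fin r => p) ≫ gmap b (G.obj (op (max n N))) := fun b => biproduct.hom_ext' _ _ fun k => by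
    rw [biproduct.ι_desc_assoc, biproduct.ι_map_assoc, biproduct.ι_desc, W7Cech.smulMod_natural]
  rw [zero_comp, show limit.π G (op n) = p ≫ trG G hn from (limit.w G (homOfLE hn).op).symm, Category.assoc,
    ← Category.assoc (gmap _ L), hnat, Category.assoc]
  rw [← Category.assoc, ← kernel.lift_ι (gmap a (G.obj (op (max n N))))
    (kernel.ι (gmap a L) ≫ biproduct.map (fun _ : Fin r => p))
    (by rw [Category.assoc, ← hnat, kernel.condition_assoc, zero_comp]), Category.assoc, h, comp_zero]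

variable {r : ℕ} {f : Fin r → A} {c' : ℕ} {Φ : ℕ → A → MvPolynomial (Fin r) A}
  (hadd : ∀ n : ℕ, ∀ g ∈ I ^ (n * c'), ∀ h ∈ I ^ (n * c'), Φ n (g + h) = Φ n g + Φ n h)
  (hsmul : ∀ (n : ℕ) (a : A), ∀ g ∈ I ^ (n * c'), Φ n (a * g) = a • Φ n g)
  (hmul : ∀ n m : ℕ, ∀ g ∈ I ^ (n * c'), ∀ h ∈ I ^ (m * c'), Φ (n + m) (g * h) = Φ n g * Φ m h)
  (ψ : Fin r → A → A) (h1 : ∀ g ∈ I ^ c', Φ 1 g = ∑ j, C (ψ j g) * MvPolynomial.X j)
  (hψadd : ∀ j, ∀ g ∈ I ^ c', ∀ h ∈ I ^ c', ψ j (g + h) = ψ j g + ψ j h)
  (hψmul : ∀ j (a : A), ∀ g ∈ I ^ c', ψ j (a * g) = a * ψ j g)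
  (hψmem : ∀ (j : Fin r) (n : ℕ), ∀ g ∈ I ^ ((n + 1) * c'), ψ j g ∈ I ^ (n * c'))

include hadd hsmul hmul h1 hψadd hψmul hψmem in
/-- The recursion for the graded map. -/
lemma Φ_succ (n : ℕ) (g : A) (hg : g ∈ I ^ ((n + 1) * c')) :
    Φ (n + 1) g = ∑ j, MvPolynomial.X j * Φ n (ψ j g) := by
  have hle : I ^ ((n + 1) * c') ≤ I ^ c' := Ideal.pow_le_pow_right (Nat.le_mul_of_pos_left _ n.succ_pos)
  have hsplit : I ^ ((n + 1) * c') = I ^ (n * c') * I ^ c' := by rw [← pow_add]; congr 1; ring
  have key : g ∈ I ^ ((n + 1) * c') ∧ Φ (n + 1) g = ∑ j, MvPolynomial.X j * Φ n (ψ j g) := by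
    rw [hsplit] at hg
    refine Submodule.mul_induction_on hg (fun u hu v hv => ?_) fun x y hx hy => ?_
    · refine ⟨hsplit ▸ Ideal.mul_mem_mul hu hv, ?_⟩
      rw [hmul n 1 u hu v (by rwa [one_mul]), h1 v hv, Finset.mul_sum]
      refine Finset.sum_congr rfl fun j _ => ?_
      rw [hψmul j u v hv, mul_comm u (ψ j v), hsmul n _ u hu, smul_eq_C_mul]
      ring
    · refine ⟨add_mem hx.1 hy.1, ?_⟩
      rw [hadd _ x hx.1 y hy.1, hx.2, hy.2, ← Finset.sum_add_distrib]
      refine Finset.sum_congr rfl fun j _ => ?_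
      rw [hψadd j x (hle hx.1) y (hle hy.1), hadd n _ (hψmem j n x hx.1) _ (hψmem j n y hy.1), mul_add]
  exact key.2

include hadd hsmul hmul h1 hψadd hψmul hψmem in
/-- Evaluation at the generators. -/
lemma eval_Φ (h0 : ∀ a, Φ 0 a = C a) (hψ : ∀ g ∈ I ^ c', g = ∑ j, f j * ψ j g) :
    ∀ (n : ℕ) (g : A), g ∈ I ^ (n * c') → MvPolynomial.eval f (Φ n g) = g := by
  intro n
  induction n with
  | zero => intro g _; rw [h0, eval_C]
  | succ n ih =>
    intro g hg
    rw [Φ_succ hadd hsmul hmul ψ h1 hψadd hψmul hψmem n g hg, map_sum]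
    simp only [map_mul, eval_X, fun j => ih _ (hψmem j n g hg)]
    exact (hψ g (Ideal.pow_le_pow_right (Nat.le_mul_of_pos_left _ n.succ_pos) hg)).symm

variable [IsNoetherianRing A]

include hadd hsmul hmul h1 hψadd hψmul hψmem in
/-- The coefficients of the graded map respect relations. -/
lemma coeff_rel (h0 : ∀ a, Φ 0 a = C a) (L : X.Modules)
    (hrel : ∀ (j : Fin r) (l : ℕ) (a : Fin l → A), (∀ i, a i ∈ I ^ c') →
      kernel.ι (gmap a L) ≫ gmap (fun i => ψ j (a i)) L = 0) :
    ∀ (n : ℕ) (e : Fin r →₀ ℕ) (l : ℕ) (a : Fin l → A), (∀ i, a i ∈ I ^ (n * c')) →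
      kernel.ι (gmap a L) ≫ gmap (fun i => coeff e (Φ n (a i))) L = 0 := by
  intro n
  induction n with
  | zero =>
    intro e l a _
    rw [show gmap (fun i => coeff e (Φ 0 (a i))) L =
      gmap a L ≫ Formal.smulMod A L (if 0 = e then 1 else 0) from biproduct.hom_ext' _ _ fun i => by
        rw [biproduct.ι_desc, biproduct.ι_desc_assoc, smulMod_comp]
        dsimp only
        rw [h0, coeff_C]
        congr 1
        split_ifs <;> simp, kernel.condition_assoc, zero_comp]
  | succ n ih =>
    intro e l a ha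
    have hle : I ^ ((n + 1) * c') ≤ I ^ c' := Ideal.pow_le_pow_right (Nat.le_mul_of_pos_left _ n.succ_pos)
    rw [show gmap (fun i => coeff e (Φ (n + 1) (a i))) L =
        ∑ j, gmap (fun i => coeff e (MvPolynomial.X j * Φ n (ψ j (a i)))) L from biproduct.hom_ext' _ _ fun i => by
          rw [biproduct.ι_desc, Preadditive.comp_sum]
          dsimp only
          rw [Φ_succ hadd hsmul hmul ψ h1 hψadd hψmul hψmem n _ (ha i),
            coeff_sum, smulMod_sum]
          exact Finset.sum_congr rfl fun j _ => (biproduct.ι_desc (fun i => Formal.smulMod A L (coeff e (MvPolynomial.X j * Φ n (ψ j (a i))))) i).symm,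
      Preadditive.comp_sum]
    refine Finset.sum_eq_zero fun j _ => ?_
    simp only [coeff_X_mul']
    by_cases hj : j ∈ e.support
    · simp only [hj, if_true]
      obtain ⟨s, b, hb⟩ := Submodule.fg_iff_exists_fin_generating_family.1 (IsNoetherian.noetherian (I ^ (n * c')))
      have hbI : ∀ k, b k ∈ I ^ (n * c') := fun k => hb ▸ Submodule.subset_span ⟨k, rfl⟩
      have hco : ∀ i, ∃ co : Fin s → A, ∑ k, co k * b k = ψ j (a i) := fun i =>
        Ideal.mem_span_range_iff_exists_fun.1 (show ψ j (a i) ∈ Submodule.span A (Set.range b) by rw [hb]; exact hψmem j n (a i) (ha i))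
      choose co hco using hco
      let v : (⨁ fun _ : Fin l => L) ⟶ ⨁ fun _ : Fin s => L :=
        biproduct.desc fun i => biproduct.lift fun k => Formal.smulMod A L (co i k)
      have hv : ∀ β : A → A, (∀ u, ∀ g ∈ I ^ (n * c'), β (u * g) = u * β g) →
          (∀ g ∈ I ^ (n * c'), ∀ h ∈ I ^ (n * c'), β (g + h) = β g + β h) →
          v ≫ gmap (fun k => β (b k)) L = gmap (fun i => β (ψ j (a i))) L := by
        intro β hβm hβa
        refine biproduct.hom_ext' _ _ fun i => ?_
        rw [biproduct.ι_desc_assoc, biproduct.ι_desc, biproduct.lift_desc]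
        have hβ0 : β 0 = 0 := by simpa using hβm 0 0 (zero_mem _)
        have hsum : ∀ t : Finset (Fin s), β (∑ k ∈ t, co i k * b k) = ∑ k ∈ t, co i k * β (b k) := fun t => by
          classical
          induction t using Finset.induction_on with
          | empty => simp [hβ0]
          | insert k t hk iht =>
            rw [Finset.sum_insert hk, Finset.sum_insert hk,
              hβa _ (Ideal.mul_mem_left _ _ (hbI k)) _ (sum_mem fun k _ => Ideal.mul_mem_left _ _ (hbI k)),
              hβm _ _ (hbI k), iht]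
        dsimp only
        rw [← hco i, hsum, smulMod_sum]
        exact Finset.sum_congr rfl fun k _ => by rw [smulMod_comp, mul_comm]
      rw [← hv (fun g => coeff (e - Finsupp.single j 1) (Φ n g))
        (fun u g hg => by rw [hsmul n u g hg, coeff_smul, smul_eq_mul])
        (fun g hg h hh => by rw [hadd n g hg h hh, coeff_add])]
      have hk : (kernel.ι (gmap a L) ≫ v) ≫ gmap b L = 0 := by
        rw [Category.assoc, hv (fun g => g) (fun _ _ _ => rfl) (fun _ _ _ _ => rfl)]
        exact hrel j l a fun i => hle (ha i)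
      rw [← Category.assoc, ← kernel.lift_ι (gmap b L) _ hk, Category.assoc, ih _ s b hbI, comp_zero]
    · simp only [hj, if_false]
      rw [show gmap (fun _ : Fin l => (0 : A)) L = 0 from biproduct.hom_ext' _ _ fun i => by
        rw [biproduct.ι_desc, smulMod_zero, comp_zero], comp_zero]

end Groth.Agent.CdOneTop
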